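import Groth.Agent.BlowUpLib.Glue
import Groth.Agent.SymX.ProjectiveClosed
import Groth.Agent.SymX.ImmPoint
import Groth.Agent.OmegaLib.IdealMod
import Groth.Agent.CurveAlgEqLib.IdealPull
import Groth.Agent.S8914
import Groth.Agent.QCoh.VanIdeal
import Groth.Agent.QCoh.Qcqs

/-!
# Blowing up an ideal of finite type is projective

The sections of the ideal embed the blowing up into the projective bundle of the ideal: over an
affine open `U`, the locus where the section `a` generates the exceptional ideal is the spectrum of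
the affine blow-up algebra `Γ(U)[I/a]`.
-/

set_option linter.style.haveILetI false
set_option backward.isDefEq.respectTransparency false
set_option backward.isDefEq.respectTransparency.types false

noncomputable section

universe u

open CategoryTheory CategoryTheory.Limits AlgebraicGeometry TopologicalSpace Opposite

namespace Groth.Agent.BlowUpX

open Groth.Agent

variable {X Y : Scheme.{u}} (𝓘 : X.IdealSheafData) (b : Y ⟶ X)

local notation "J" => 𝓘.comap b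

theorem toPush_comp_eq_zero :
    (ClSub.idealModι 𝓘 ≫ ClSub.unitToPush b) ≫
      (Scheme.Modules.pushforward b).map (ClSub.toSubscheme J) = 0 := by
  refine Scheme.Modules.hom_ext _ _ fun U => ?_
  ext k
  show (Scheme.IdealSheafData.subschemeι J).app (b ⁻¹ᵁ U) (b.app U (OmegaSh.idealSect 𝓘 U k)) = 0
  let h := Scheme.IdealSheafData.subschemeMap J 𝓘 b (𝓘.le_map_comap b)
  have hh : h ≫ 𝓘.subschemeι = (Scheme.IdealSheafData.subschemeι J) ≫ b :=
    Scheme.IdealSheafData.subschemeMap_subschemeι _ _ _ _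
  have key : ∀ (f : (Scheme.IdealSheafData.subscheme J) ⟶ X), f = h ≫ 𝓘.subschemeι →
      f.app U (OmegaSh.idealSect 𝓘 U k) = 0 := by
    rintro _ rfl
    rw [Scheme.Hom.comp_app, CommRingCat.comp_apply, OmegaLib.subschemeι_app_idealSect, map_zero]
  exact key ((Scheme.IdealSheafData.subschemeι J) ≫ b) hh.symm

/-- An element of the centre gives a section of the exceptional ideal. -/
def thetaMap : ClSub.idealMod 𝓘 ⟶ (Scheme.Modules.pushforward b).obj (ClSub.idealMod J) :=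
  kernel.lift _ (ClSub.idealModι 𝓘 ≫ ClSub.unitToPush b) (toPush_comp_eq_zero 𝓘 b) ≫
    (PreservesKernel.iso (Scheme.Modules.pushforward b) (ClSub.toSubscheme J)).inv

theorem thetaMap_ι :
    thetaMap 𝓘 b ≫ (Scheme.Modules.pushforward b).map (ClSub.idealModι J) =
      ClSub.idealModι 𝓘 ≫ ClSub.unitToPush b := by
  rw [thetaMap, Category.assoc]
  erw [PreservesKernel.iso_inv_ι, kernel.lift_ι]

theorem idealSect_thetaMap {U : X.Opens} (k : Γ(ClSub.idealMod 𝓘, U)) :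
    OmegaSh.idealSect J (b ⁻¹ᵁ U) (SymX.th b (thetaMap 𝓘 b) k) =
      b.app U (OmegaSh.idealSect 𝓘 U k) :=
  congr(($(thetaMap_ι 𝓘 b)).app U k)

theorem idealSect_res {U : X.Opens} (k : Γ(ClSub.idealMod 𝓘, U)) {W : Y.Opens} (h : W ≤ b ⁻¹ᵁ U) :
    OmegaSh.idealSect J W (AModX.res _ h (SymX.th b (thetaMap 𝓘 b) k)) =
      b.appLE U W h (OmegaSh.idealSect 𝓘 U k) := by
  refine (OmegaLib.idealSect_map J h _).trans ?_
  rw [idealSect_thetaMap, Scheme.Hom.appLE, CommRingCat.comp_apply]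

theorem isQCoh_idealMod (K : X.IdealSheafData) : Coh.IsQCoh (ClSub.idealMod K) :=
  QCoh.isQCoh_kernel QCoh.isQCoh_structureModule
    (QCoh.isQCoh_pushforward K.subschemeι QCoh.isQCoh_structureModule) _

theorem isFT_idealMod (h : BlowUp.IsFiniteTypeIdeal 𝓘) : CohB1.IsFT (ClSub.idealMod 𝓘) := by
  refine QCoh.isFT_of_finite (isQCoh_idealMod 𝓘) (fun U : X.affineOpens => U.1)
    (iSup_affineOpens_eq_top X) (fun U => U.2) fun U => ?_
  let l : Γ(ClSub.idealMod 𝓘, U.1) →ₗ[Γ(X, U.1)] 𝓘.ideal U :=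
    { toFun := fun k => ⟨OmegaSh.idealSect 𝓘 U.1 k, OmegaLib.idealSect_mem 𝓘 U k⟩
      map_add' := fun k k' => Subtype.ext (map_add _ k k')
      map_smul' := fun r k => Subtype.ext (OmegaLib.idealSect_smul 𝓘 U.1 r k) }
  have hl : Function.Bijective l :=
    ⟨fun k k' e => OmegaLib.idealSect_injective 𝓘 U.1 (congrArg Subtype.val e), fun a =>
      (OmegaLib.exists_of_mem 𝓘 U a.1 a.2).imp fun k hk => Subtype.ext hk⟩
  haveI : Module.Finite Γ(X, U.1) (𝓘.ideal U) := Module.Finite.iff_fg.2 (h U)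
  exact Module.Finite.equiv (LinearEquiv.ofBijective l hl).symm

variable {𝓘 b}

/-- A coordinate of a section of the centre in a frame of the exceptional ideal. -/
theorem ideal_eq_map {U : X.affineOpens} {W : Y.affineOpens} (h : W.1 ≤ b ⁻¹ᵁ U.1) :
    (J).ideal W = (𝓘.ideal U).map (b.appLE U.1 W.1 h).hom :=
  ModPairLib.ideal_comap 𝓘 b U W h

variable (hb : BlowUp.IsBlowUp b 𝓘)

include hb in
theorem isInvertible_exceptional : PicF.IsInvertible (ClSub.idealMod J) :=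
  (Groth.Agent.S8914.result _).2 hb.1

include hb in
theorem exists_frame_le {y : Y} {N : Y.Opens} (hy : y ∈ N) :
    ∃ (W : Y.affineOpens) (ε : Γ(ClSub.idealMod J, W.1)), y ∈ W.1 ∧ W.1 ≤ N ∧ InvX.IsFrame ε := by
  obtain ⟨W₀, h₀, ε₀, hε₀⟩ := InvX.exists_frame (isInvertible_exceptional hb) y
  obtain ⟨W, hW, hyW, hle⟩ := exists_isAffineOpen_mem_and_subset (U := W₀ ⊓ N) (x := y) ⟨h₀, hy⟩
  exact ⟨⟨W, hW⟩, AModX.res _ (fun z hz => (hle hz).1) ε₀, hyW, fun z hz => (hle hz).2, hε₀.res _⟩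

include hb in
/-- Some element of the centre generates near a given point. -/
theorem exists_gen (y : Y) : ∃ (U : X.Opens) (_ : IsAffineOpen U) (k : Γ(ClSub.idealMod 𝓘, U)),
    y ∈ AmpleX.locus (SymX.th b (thetaMap 𝓘 b) k) := by
  obtain ⟨U, hU, hyU, -⟩ := exists_isAffineOpen_mem_and_subset (U := ⊤) (x := b y) trivial
  obtain ⟨W, ε, hyW, hWU, hε⟩ := exists_frame_le hb (N := b ⁻¹ᵁ U) hyU
  refine ⟨U, hU, ?_⟩
  by_contra! hall
  have hd : ∀ a ∈ 𝓘.ideal ⟨U, hU⟩, ∃ d : Γ(Y, W.1), y ∉ Y.basicOpen d ∧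
      b.appLE U W.1 hWU a = d * OmegaSh.idealSect J W.1 ε := by
    intro a ha
    obtain ⟨k, rfl⟩ := OmegaLib.exists_of_mem 𝓘 ⟨U, hU⟩ a ha
    obtain ⟨d, hd⟩ := hε.exists_coord le_rfl (AModX.res _ hWU (SymX.th b (thetaMap 𝓘 b) k))
    rw [AModX.res_self] at hd
    refine ⟨d, fun hyd => hall k ?_, ?_⟩
    · exact (inf_le_left (b := W.1)) ((AmpleX.locus_inf _ hWU hε hd).ge hyd)
    · rw [← idealSect_res, hd, OmegaLib.idealSect_smul]
  set g := OmegaSh.idealSect J W.1 ε with hg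
  have hJ : (J).ideal W = Ideal.span {g} := CurveAlgEqLib.span_idealSect_frame J W hε
  let p : Ideal Γ(Y, W.1) := (W.2.primeIdealOf ⟨y, hyW⟩).asIdeal
  have hle : (J).ideal W ≤ Ideal.span {g} * p := by
    rw [ideal_eq_map (U := ⟨U, hU⟩) hWU, Ideal.map_le_iff_le_comap]
    intro a ha
    obtain ⟨d, hyd, he⟩ := hd a ha
    rw [Ideal.mem_comap]
    show b.appLE U W.1 hWU a ∈ _
    rw [he, mul_comm d]
    refine Ideal.mul_mem_mul (Ideal.mem_span_singleton_self g) (by_contra fun hdp => hyd ?_)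
    exact (QCoh.mem_basicOpen_iff_notMem W.2 hyW d).2 hdp
  obtain ⟨c, hc, hgc⟩ := Ideal.mem_span_singleton_mul.1 (hle (hJ ▸ Ideal.mem_span_singleton_self g))
  have hg0 := ModPairLib.generator_mem_nonZeroDivisors hb.1 hJ
  have h1 : c - 1 = 0 := mem_nonZeroDivisors_iff_right.1 hg0 _ (by
    rw [sub_mul, one_mul, mul_comm, hgc, sub_self])
  exact (W.2.primeIdealOf ⟨y, hyW⟩).isPrime.ne_top
    ((Ideal.eq_top_iff_one _).2 (sub_eq_zero.1 h1 ▸ hc))

theorem isUnit_of_mul {R : Type*} [CommRing R] {G A D : R} (hG : G ∈ nonZeroDivisors R) (hA : A = D * G)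
    (h : G ∈ Ideal.span {A}) : IsUnit D := by
  obtain ⟨s, hs⟩ := Ideal.mem_span_singleton'.1 h
  refine IsUnit.of_mul_eq_one_right s (sub_eq_zero.1 (mem_nonZeroDivisors_iff_right.1 hG _ ?_))
  rw [sub_mul, one_mul, mul_assoc, ← hA, hs, sub_self]

include hb in
/-- A point over which the section of the centre generates maps into its locus. -/
theorem mem_locus_of_generates {Z : Scheme.{u}} {U : X.Opens} 
    (e : Γ(ClSub.idealMod 𝓘, U)) (c : Z ⟶ Y) {g₀ : Z ⟶ X} (hc : c ≫ b = g₀)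
    (hg₀ : BlowUp.IsEffCartierIdeal (𝓘.comap g₀)) (p : Z) (hp : c p ∈ b ⁻¹ᵁ U)
    (hgen : ∀ (V : Z.affineOpens) (hVU : V.1 ≤ g₀ ⁻¹ᵁ U), (𝓘.comap g₀).ideal V ≤
      Ideal.span {(g₀.appLE U V.1 hVU).hom (OmegaSh.idealSect 𝓘 U e)}) :
    c p ∈ AmpleX.locus (SymX.th b (thetaMap 𝓘 b) e) := by
  subst hc
  obtain ⟨W, ε, hyW, hWU, hε⟩ := exists_frame_le hb (N := b ⁻¹ᵁ U) hp
  obtain ⟨d, hd⟩ := hε.exists_coord le_rfl (AModX.res _ hWU (SymX.th b (thetaMap 𝓘 b) e))
  rw [AModX.res_self] at hd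
  refine (inf_le_left (b := W.1)) ((AmpleX.locus_inf _ hWU hε hd).ge ?_)
  obtain ⟨V, hV, hpV, hVW⟩ := exists_isAffineOpen_mem_and_subset (U := c ⁻¹ᵁ W.1) (x := p) hyW
  have hVW' : V ≤ c ⁻¹ᵁ W.1 := hVW
  have hVU : V ≤ (c ≫ b) ⁻¹ᵁ U := hVW'.trans (c.preimage_mono hWU)
  let g := OmegaSh.idealSect J W.1 ε
  let c' := (c.appLE W.1 V hVW').hom
  have hJV : (𝓘.comap (c ≫ b)).ideal ⟨V, hV⟩ = Ideal.span {c' g} := by
    rw [Scheme.IdealSheafData.comap_comp, ModPairLib.ideal_comap J c W ⟨V, hV⟩ hVW',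
      CurveAlgEqLib.span_idealSect_frame J W hε, Ideal.map_span, Set.image_singleton]
  have hmem := hgen ⟨V, hV⟩ hVU (hJV ▸ Ideal.mem_span_singleton_self (c' g))
  rw [show (c ≫ b).appLE U V hVU = b.appLE U W.1 hWU ≫ c.appLE W.1 V hVW' from
    (Scheme.Hom.appLE_comp_appLE _ _ _ _ _ _ _).symm] at hmem
  have hu : IsUnit (c' d) := isUnit_of_mul (ModPairLib.generator_mem_nonZeroDivisors hg₀ hJV)
    (by rw [← map_mul]; exact congrArg c' ((idealSect_res 𝓘 b e hWU).symm.trans (by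
      rw [hd, OmegaLib.idealSect_smul]))) hmem
  have hp' : p ∈ Z.basicOpen (c' d) := by
    rw [Scheme.basicOpen_of_isUnit _ hu]
    exact hpV
  rw [show c' d = (c.appLE W.1 V hVW') d from rfl, Scheme.Hom.appLE, CommRingCat.comp_apply,
    Scheme.basicOpen_res, ← Scheme.preimage_basicOpen] at hp'
  exact hp'.2

/-- On the chart of `a`, the centre is generated by `a`. -/
theorem comap_chart_le_span (U : X.affineOpens) {B : CommRingCat.{u}} (α : Γ(X, U.1) ⟶ B) (a : Γ(X, U.1))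
    (hdiv : ∀ m ∈ 𝓘.ideal U, ∃ q : B, q * α.hom a = α.hom m)
    (g₀ : Spec B ⟶ X) (hg₀ : g₀ = Spec.map α ≫ U.2.fromSpec)
    (V : (Spec B).affineOpens) (hVU : V.1 ≤ g₀ ⁻¹ᵁ U.1) :
    (𝓘.comap g₀).ideal V ≤ Ideal.span {(g₀.appLE U.1 V.1 hVU).hom a} := by
  rw [ModPairLib.ideal_comap 𝓘 g₀ U V hVU]
  obtain ⟨lam, hlam⟩ := Spec.map_surjective V.2.fromSpec
  have h2 : Spec.map (g₀.appLE U.1 V.1 hVU) ≫ U.2.fromSpec = V.2.fromSpec ≫ g₀ :=
    IsAffineOpen.SpecMap_appLE_fromSpec g₀ U.2 V.2 hVU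
  rw [← hlam] at h2
  have h3 : Spec.map (g₀.appLE U.1 V.1 hVU) ≫ U.2.fromSpec = Spec.map (α ≫ lam) ≫ U.2.fromSpec := by
    rw [h2, hg₀, Spec.map_comp, Category.assoc]
  rw [cancel_mono] at h3
  rw [Spec.map_injective h3]
  refine Ideal.map_le_iff_le_comap.2 fun m hm => ?_
  obtain ⟨q, hq⟩ := hdiv m hm
  rw [Ideal.mem_comap, Ideal.mem_span_singleton']
  exact ⟨lam.hom q, ((map_mul lam.hom _ _).symm.trans (congrArg lam.hom hq))⟩

include hb in
/-- The ratios with an element of the centre embed the locus where it generates. -/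
theorem immAt {U : X.Opens} (hU : IsAffineOpen U) (e : Γ(ClSub.idealMod 𝓘, U)) :
    SymX.ImmAt b (thetaMap 𝓘 b) e := by
  let I := 𝓘.ideal ⟨U, hU⟩
  let L := ClSub.idealMod J
  let θ := thetaMap 𝓘 b
  let T := AmpleX.locus (SymX.th b θ e)
  have hTU : T ≤ b ⁻¹ᵁ U := AmpleX.locus_le _
  have hfr : InvX.IsFrame (AModX.res L hTU (SymX.th b θ e)) := AmpleX.isFrame_res_locus _
  let a : I := ⟨OmegaSh.idealSect 𝓘 U e, OmegaLib.idealSect_mem 𝓘 ⟨U, hU⟩ e⟩
  let τ : Γ(X, U) →+* Γ(Y, T) := (b.appLE U T hTU).hom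
  have hcoord : ∀ (r : Γ(Y, T)),
      OmegaSh.idealSect J T (r • AModX.res L hTU (SymX.th b θ e)) = r * τ a := fun r => by
    rw [OmegaLib.idealSect_smul, idealSect_res]
  have hτa : τ a ∈ nonZeroDivisors Γ(Y, T) := mem_nonZeroDivisors_iff_right.2 fun r hr => by
    refine hfr.coord_unique le_rfl (r' := 0) ?_
    rw [AModX.res_self, zero_smul]
    exact OmegaLib.idealSect_injective J T (((hcoord r).trans hr).trans (map_zero _).symm)
  have hdvd : ∀ k : Γ(ClSub.idealMod 𝓘, U), ∃ v : Γ(Y, T),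
      AModX.res L hTU (SymX.th b θ k) = v • AModX.res L hTU (SymX.th b θ e) ∧
      τ (OmegaSh.idealSect 𝓘 U k) = v * τ a := fun k => by
    obtain ⟨v, hv⟩ := hfr.exists_coord le_rfl (AModX.res L hTU (SymX.th b θ k))
    rw [AModX.res_self] at hv
    exact ⟨v, hv, by rw [← hcoord, ← hv, idealSect_res]⟩
  obtain ⟨ψ, hψ⟩ := BlowUpLib.exists_hom_affineAlgebra I a τ hτa (Ideal.map_le_iff_le_comap.2 fun m hm => by
    obtain ⟨k, rfl⟩ := OmegaLib.exists_of_mem 𝓘 ⟨U, hU⟩ m hm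
    obtain ⟨v, -, hv⟩ := hdvd k
    exact Ideal.mem_span_singleton'.2 ⟨v, hv.symm⟩)
  let R := Subring.closure (SymX.ratioSet b θ e)
  let B := BlowUp.affineAlgebra Γ(X, U) I (a : Γ(X, U))
  have hψR : ∀ q : B, ψ q ∈ R := by
    rintro ⟨q, hq⟩
    change q ∈ Algebra.adjoin _ _ at hq
    induction hq using Algebra.adjoin_induction with
    | mem q hq =>
      obtain ⟨x, hx, rfl⟩ := hq
      obtain ⟨k, hk⟩ := OmegaLib.exists_of_mem 𝓘 ⟨U, hU⟩ x hx
      refine Subring.subset_closure (Or.inr ⟨k, OmegaLib.idealSect_injective J T ?_⟩)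
      refine Eq.trans ?_ (hcoord _).symm
      rw [idealSect_res, hk]
      have e1 := congrArg ψ (BlowUpLib.frac_mul I ⟨x, hx⟩ a)
      rw [map_mul, ← RingHom.comp_apply ψ, ← RingHom.comp_apply ψ, hψ] at e1
      exact e1.symm
    | algebraMap r =>
      refine Subring.subset_closure (Or.inl ⟨r, ?_⟩)
      exact (congrArg (· r) hψ).trans rfl
    | add p q hp hq ihp ihq =>
      exact (map_add ψ ⟨p, hp⟩ ⟨q, hq⟩).symm ▸ R.add_mem ihp ihq
    | mul p q hp hq ihp ihq =>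
      exact (map_mul ψ ⟨p, hp⟩ ⟨q, hq⟩).symm ▸ R.mul_mem ihp ihq
  let ψ' : CommRingCat.of B ⟶ Γ(Y, T) := CommRingCat.ofHom ψ
  let f : (T : Scheme.{u}) ⟶ Spec (CommRingCat.of B) := T.toSpecΓ ≫ Spec.map ψ'
  let g₀ : Spec (CommRingCat.of B) ⟶ X :=
    Spec.map (CommRingCat.ofHom (algebraMap Γ(X, U) B)) ≫ hU.fromSpec
  have hf : f ≫ g₀ = T.ι ≫ b := by
    have hτ : CommRingCat.ofHom (algebraMap Γ(X, U) B) ≫ ψ' = b.appLE U T hTU :=
      CommRingCat.hom_ext hψ
    simp only [f, g₀, Category.assoc]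
    rw [← Spec.map_comp_assoc, hτ, Scheme.Opens.toSpecΓ_SpecMap_appLE_assoc, hU.toSpecΓ_fromSpec,
      Scheme.Hom.resLE_comp_ι]
  have hg₀ : BlowUp.IsEffCartierIdeal (𝓘.comap g₀) := by
    simp only [g₀]
    rw [Scheme.IdealSheafData.comap_comp, BlowUpLib.comap_fromSpec 𝓘 ⟨U, hU⟩,
      ← BlowUpLib.chart_toBase I a, Scheme.IdealSheafData.comap_comp]
    exact BlowUpLib.isEffCartier_comap_flat _ (BlowUpLib.isBlowUp_local I).1
  obtain ⟨c, hc, -⟩ := hb.2 _ g₀ hg₀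
  have hcU : ∀ p, c p ∈ b ⁻¹ᵁ U := fun p => by
    show b (c p) ∈ U
    rw [← Scheme.Hom.comp_apply, hc, Scheme.Hom.comp_apply, ← SetLike.mem_coe, ← hU.range_fromSpec]
    exact Set.mem_range_self _
  have hcT : ∀ p, c p ∈ T := fun p =>
    mem_locus_of_generates hb e c hc hg₀ p (hcU p)
      (comap_chart_le_span ⟨U, hU⟩ (CommRingCat.ofHom (algebraMap Γ(X, U) B)) a
        (fun m hm => ⟨_, BlowUpLib.frac_mul I ⟨m, hm⟩ a⟩) g₀ rfl)
  let cT : Spec (CommRingCat.of B) ⟶ T := IsOpenImmersion.lift T.ι c (by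
    rw [Scheme.Opens.range_ι]
    rintro _ ⟨p, rfl⟩
    exact hcT p)
  have hcT' : cT ≫ T.ι = c := IsOpenImmersion.lift_fac _ _ _
  have h1 : f ≫ cT = 𝟙 _ := by
    rw [← cancel_mono T.ι, Category.assoc, hcT', Category.id_comp]
    refine BlowUpLib.isBlowUp_hom_ext hb (by rw [Category.assoc, hc, hf]) ?_
    rw [Scheme.IdealSheafData.comap_comp]
    exact BlowUpLib.isEffCartier_comap_flat _ hb.1
  have h2 : cT ≫ f = 𝟙 _ := by
    obtain ⟨χ, hχ⟩ := Spec.map_surjective (cT ≫ f)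
    have h3 : Spec.map χ ≫ g₀ = g₀ := by
      rw [hχ, Category.assoc, hf, reassoc_of% hcT', hc]
    simp only [g₀] at h3
    rw [← Spec.map_comp_assoc, cancel_mono] at h3
    have h4 : χ.hom.comp (algebraMap Γ(X, U) B) = algebraMap Γ(X, U) B :=
      congrArg CommRingCat.Hom.hom (Spec.map_injective h3)
    have ha0 : algebraMap Γ(X, U) B a ∈ nonZeroDivisors B :=
      mem_nonZeroDivisors_iff_right.mpr fun q hq => Subtype.ext (mem_nonZeroDivisors_iff_right.mp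
        (IsLocalization.Away.algebraMap_isUnit (S := Localization.Away (a : Γ(X, U)))
          (a : Γ(X, U))).mem_nonZeroDivisors q.1 (congrArg Subtype.val hq))
    have h5 : χ.hom = RingHom.id B :=
      BlowUpLib.hom_ext_affineAlgebra I a h4 (RingHom.id_comp _) ha0
    rw [← hχ, show χ = 𝟙 _ from CommRingCat.hom_ext h5, Spec.map_id]
  haveI : IsIso f := ⟨cT, h1, h2⟩
  haveI : IsImmersion (T.toSpecΓ ≫ Spec.map ψ') := (inferInstance : IsImmersion f)
  exact SymX.isImmersion_subSpec_of_hom T ψ' R hψR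

include hb in
theorem immPoints : SymX.ImmPoints b (thetaMap 𝓘 b) := fun y => by
  obtain ⟨U, hU, k, hk⟩ := exists_gen hb y
  exact ⟨U, hU, k, hk, immAt hb hU k⟩

include hb in
/-- A blowing up in an ideal of finite type is projective. -/
theorem isProjective_of_isBlowUp (hft : BlowUp.IsFiniteTypeIdeal 𝓘) : RelProj.IsProjective b := by
  haveI := BlowUpLib.isProper_of_isBlowUp _ hb hft
  obtain ⟨A⟩ := SymX.nonempty_bundle (isQCoh_idealMod 𝓘)
  obtain ⟨r, hr, hrp, -⟩ :=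
    SymX.exists_immersion_of_immPoints (isQCoh_idealMod 𝓘) (immPoints hb) A
  exact SymX.isProjective_of_immersion A (isQCoh_idealMod 𝓘) (isFT_idealMod 𝓘 hft) r hrp

end Groth.Agent.BlowUpX
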